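import Cfsg.Agent.Screen.CosetEnum.Core

/-!
# Cosets of the certificate
-/

set_option autoImplicit false
set_option maxRecDepth 20000

namespace Cfsg.Agent.Screen.CosetEnum.Fi23Mult.BRE

open Cfsg.Agent.Screen.CosetEnum

def cosetTree0 : Tr :=
  (.leaf 0xee00005005b1000ed00004005aa000ec00003005a3000eb000020059c000ea0000100595000e80000600587000e70000600586000e6000070057f000e4000070056e000e40000000579000e20000700563000e20000100569000e00000700559000df000060053f000dd0000700553000dc0000600534000dc000020053a000da000070054c000d8000060052c000d80000300518000d70000700546000d60000600526000d4000030050f000d40000100507000d30000600521000d200001004fc000d1000030050e000d000002004f0000cf00001004f9000cd00002004dc000cc00002004e0000cc00000004de000c900002004c2000c800002004c8000c800000004c6000c700001004bd000c500000004b5000c400002004c1000c400000004b3000c3000010049f000c2000060049b000bf00000004ac000be0000100491000bd000010048f000bc0000600489000bc0000400484000bb000040047d000b900000004a9000b80000100466000b70000600461000b6000060045f000b6000050045c000b4000050043c000b20000600453000b10000100464000b00000600449000b00000500443000b00000300441000ae0000500423000ae0000300438000ab0000600410000ab0000500429000aa000060040e000aa000040040a000a80000500414000a700004003ec000a50000500418000a300006003fb000a300004003f2000a300002003f0000a000005003db0009f00004003c20009f00002003ea0009e00005003e50009d00004003c7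0009c00006003f80009c00003003b00009a00005003d00009900005003d40009800004003b70009700003003990009600004003be0009500003003a100095000010039f00093000050039100092000040037100091000040037400090000030035d00090000010039a0008f00003003680008e00002003480008c000050038b0008b000040036c0008a000030035100089000030035700088000020033800087000020034100087000000033f00085000050038400084000040033100083000030031900082000020030600081000020031000081000000030e0008000001002fd0007e00005003800007d000040032e0007b00003003170007a00002003050007a00000003070007900001002f70007800006002fb0007700005003790007600004003280007500003002e30007400000002e90007300002002d00007200001002cb0007100006002c50007000007002f00006f00004003210006e00003002d90006d00002002a30006c00001002b20006b00001002930006a000060028b0006900007002850006900006002be0006800003002d600067000020029d00066000010027900064000060026c00063000060026a00062000070026500062000010028100061000020029a00060000010025d0005e00006002430005d00006002460005c000070023a0005b00007002380005b00002002300005a000010025a00058000060022500057000060022900056000070021e00054000070021600054000020022f00054000000021a0005200006002020005100006002070005000007001f70004e00007001e20004e00000001f40004d00007001e40004d00001001dd0004c00006002010004b00007001ef0004800007001cb0004800000001ec0004700007001cd0004700001001c80004600006001c20004400007001a60004400000001e80004200007001b40004100007001a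a0004100001001a300040000060019d0004000003001bd0003e00007001880003e00001001a00003c000070018b0003b000060017d0003a000060017b0003a000040017800038000070017000037000060014d00035000070017200034000060015000034000040015b00034000020014a0003200007001690003100006001310003100002001470002f000040013e0002e00006001330002e000030012d0002d00007001640002b00006001260002b000030010d0002a000040013d00029000030011100029000010010f0002800006001220002600003000fe0002600001000ed0002500003001030002400002000f70002300001000eb0002200003000fd0002100002000d60002000002000db0002000000000d90001e00002000a20001d00002000a90001d00000000a70001c00001000ce0001a00002000a10001a00000000a300019000010009a0001800006000ca0001700000000a50001600001000800001500006000950001400007000c300013000010008100012000060007900011000070008f0001100005000bd0000f00006000640000e00007000710000e000040008a0000d00006000620000c000070005c0000c000030006c0000a000070004a0000a000020005700008000070003e00008000010004600007000070003d00006000060003000005000060002f00005000000002a00004000010002400003000020001d00002000030001600001000040000f000000000500008000000000000000)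

/-- Packed table. -/
def cosetTree : Tr := cosetTree0

end Cfsg.Agent.Screen.CosetEnum.Fi23Mult.BRE
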